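import Mathlib
import Cfsg.Agent.H69.PSL2Elements

/-!
Normalisers of the maximal tori of `SL₂(q)`, and class numbers of groups with an abelian subgroup
of index two inverted by the other coset.
-/

namespace Cfsg.Agent.H69

open Matrix Matrix.SpecialLinearGroup

/-- The number of commuting pairs as a sum of centraliser orders. -/
lemma card_conjClasses_mul_card_eq_sum (G : Type*) [Group G] [Fintype G] :
    Nat.card (ConjClasses G) * Nat.card G
      = ∑ g : G, Nat.card (Subgroup.centralizer ({g} : Set G)) := by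
  classical
  rw [← card_comm_eq_card_conjClasses_mul_card, Nat.card_congr
    (Equiv.subtypeProdEquivSigmaSubtype (fun a b : G => Commute a b)), Nat.card_sigma]
  refine Finset.sum_congr rfl fun g _ => Nat.card_congr (Equiv.subtypeEquivRight fun x => ?_)
  exact ⟨fun h => Subgroup.mem_centralizer_singleton_iff.2 h.symm,
    fun h => (Subgroup.mem_centralizer_singleton_iff.1 h).symm⟩

/-- Class number of a group with an abelian subgroup of index two, inverted by the other coset,
with exactly two solutions of `c² = 1`. -/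
lemma card_conjClasses_of_inverting {G : Type*} [Group G] [Finite G] (C : Subgroup G)
    (hcomm : ∀ a ∈ C, ∀ b ∈ C, a * b = b * a) (hidx : C.index = 2)
    (hinv : ∀ w, w ∉ C → ∀ c ∈ C, w * c * w⁻¹ = c⁻¹) {z : G} (hz1 : z ≠ 1) (hz : z ∈ C)
    (hzz : z * z = 1) (huniq : ∀ c ∈ C, c * c = 1 → c = 1 ∨ c = z) :
    2 * Nat.card (ConjClasses G) = Nat.card C + 6 := by
  classical
  haveI := Fintype.ofFinite G
  have hset : ∀ c ∈ C, (c * c = 1 ↔ c = 1 ∨ c = z) := fun c hc =>
    ⟨huniq c hc, by rintro (rfl | rfl) <;> simp [hzz]⟩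
  have hA : ∀ c ∈ C, ¬ c * c = 1 → Subgroup.centralizer ({c} : Set G) = C := by
    intro c hc hne
    ext x
    rw [Subgroup.mem_centralizer_singleton_iff]
    refine ⟨fun h => ?_, fun hx => hcomm x hx c hc⟩
    by_contra hx
    have := hinv x hx c hc
    rw [h, mul_inv_cancel_right] at this
    exact hne (mul_eq_one_iff_eq_inv.2 this)
  have hB : ∀ c ∈ C, c * c = 1 → Subgroup.centralizer ({c} : Set G) = ⊤ := by
    intro c hc he
    rw [eq_top_iff]
    intro x _
    rw [Subgroup.mem_centralizer_singleton_iff]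
    by_cases hx : x ∈ C
    · exact hcomm x hx c hc
    · have := hinv x hx c hc
      rw [← mul_eq_one_iff_eq_inv.1 he] at this
      exact mul_inv_eq_iff_eq_mul.1 this
  have hD : ∀ w, w ∉ C → Nat.card (Subgroup.centralizer ({w} : Set G)) = 4 := by
    intro w hw
    have e : (Subgroup.centralizer ({w} : Set G) : Set G) = {1, z, w, w * z} := by
      ext x
      simp only [SetLike.mem_coe, Subgroup.mem_centralizer_singleton_iff, Set.mem_insert_iff,
        Set.mem_singleton_iff]
      have key : ∀ c ∈ C, (c * w = w * c ↔ c = 1 ∨ c = z) := by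
        intro c hc
        rw [← hset c hc]
        have := mul_inv_eq_iff_eq_mul.1 (hinv w hw c hc)
        rw [this]
        constructor
        · intro h
          exact mul_eq_one_iff_eq_inv.2 (mul_right_cancel h)
        · intro h
          rw [← mul_eq_one_iff_eq_inv.1 h]
      constructor
      · intro h
        by_cases hx : x ∈ C
        · exact ((key x hx).1 h).elim Or.inl (fun e => Or.inr (Or.inl e))
        · have hc : w⁻¹ * x ∈ C := by
            rw [Subgroup.mul_mem_iff_of_index_two hidx, inv_mem_iff]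
            exact iff_of_false hw hx
          have : (w⁻¹ * x) * w = w * (w⁻¹ * x) := by
            rw [mul_assoc, h, inv_mul_cancel_left, mul_inv_cancel_left]
          rcases (key _ hc).1 this with e | e
          · exact Or.inr (Or.inr (Or.inl (eq_of_inv_mul_eq_one e).symm))
          · exact Or.inr (Or.inr (Or.inr (by rw [← e, mul_inv_cancel_left])))
      · have hzw := (key z hz).2 (Or.inr rfl)
        rintro (rfl | rfl | rfl | rfl)
        · simp
        · exact hzw
        · rfl
        · rw [mul_assoc, hzw]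
    have hwz : w * z ∉ C := by
      rw [Subgroup.mul_mem_iff_of_index_two hidx]
      exact fun h => hw (h.2 hz)
    have n1 : (1 : G) ≠ w := fun h => hw (h ▸ C.one_mem)
    have n2 : z ≠ w := fun h => hw (h ▸ hz)
    have n3 : (1 : G) ≠ w * z := fun h => hwz (h ▸ C.one_mem)
    have n4 : z ≠ w * z := fun h => hwz (h ▸ hz)
    have n5 : w ≠ w * z := fun h => hz1 (mul_eq_left.1 h.symm)
    change Nat.card ((Subgroup.centralizer ({w} : Set G) : Set G) : Type _) = 4
    rw [e, Nat.card_coe_set_eq, Set.ncard_insert_of_notMem (by simp [hz1.symm, n1, n3]),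
      Set.ncard_insert_of_notMem (by simp [n2, n4]), Set.ncard_pair n5]
  have hn : Nat.card G = 2 * Nat.card C := by
    rw [← C.card_mul_index, hidx, mul_comm]
  set n := Nat.card C with hndef
  have hsum := card_conjClasses_mul_card_eq_sum G
  rw [← Finset.sum_filter_add_sum_filter_not Finset.univ (fun g => g ∈ C),
    Finset.sum_congr rfl (s₁ := Finset.univ.filter (fun g => g ∉ C))
      (fun g hg => hD g (Finset.mem_filter.1 hg).2),
    Finset.sum_const, smul_eq_mul,
    ← Finset.sum_filter_add_sum_filter_not (Finset.univ.filter (fun g => g ∈ C))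
      (fun g => g * g = 1),
    Finset.sum_congr rfl (s₁ := (Finset.univ.filter (fun g => g ∈ C)).filter (fun g => g * g = 1))
      (g := fun _ => Nat.card G) (fun g hg => by
        simp only [Finset.mem_filter] at hg
        rw [hB g hg.1.2 hg.2, Subgroup.card_top]),
    Finset.sum_congr rfl
      (s₁ := (Finset.univ.filter (fun g => g ∈ C)).filter (fun g => ¬ g * g = 1))
      (g := fun _ => n) (fun g hg => by
        simp only [Finset.mem_filter] at hg
        rw [hA g hg.1.2 hg.2]),
    Finset.sum_const, Finset.sum_const, smul_eq_mul, smul_eq_mul] at hsum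
  have hC : (Finset.univ.filter (fun g : G => g ∈ C)).card = n := by
    rw [← Fintype.card_subtype, hndef, Nat.card_eq_fintype_card]
  have hsq : (Finset.univ.filter (fun g : G => g ∈ C)).filter (fun g => g * g = 1) = {1, z} := by
    ext g
    simp only [Finset.mem_filter, Finset.mem_univ, true_and, Finset.mem_insert,
      Finset.mem_singleton]
    constructor
    · exact fun h => (hset g h.1).1 h.2
    · intro h
      have : g ∈ C := by rcases h with rfl | rfl; exacts [C.one_mem, hz]
      exact ⟨this, (hset g this).2 h⟩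
  have hsq2 : ((Finset.univ.filter (fun g : G => g ∈ C)).filter (fun g => g * g = 1)).card = 2 := by
    rw [hsq, Finset.card_pair hz1.symm]
  have hrest := Finset.card_filter_add_card_filter_not
    (s := Finset.univ.filter (fun g : G => g ∈ C)) (fun g => g * g = 1)
  have hcompl := Finset.card_filter_add_card_filter_not
    (s := (Finset.univ : Finset G)) (fun g => g ∈ C)
  rw [Finset.card_univ, ← Nat.card_eq_fintype_card] at hcompl
  have hpos : 0 < n := Nat.card_pos
  obtain ⟨m, hm⟩ : ∃ m, n = m + 2 := ⟨n - 2, by omega⟩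
  refine Nat.eq_of_mul_eq_mul_right hpos ?_
  have h1 : ((Finset.univ.filter (fun g : G => g ∈ C)).filter (fun g => ¬ g * g = 1)).card = m := by
    omega
  have h2 : (Finset.univ.filter (fun g : G => ¬ g ∈ C)).card = n := by omega
  rw [hsq2, h1, h2, hn] at hsum
  rw [mul_assoc, mul_comm 2, mul_assoc, mul_comm n 2, hsum, hm]
  ring

section SL

variable {F : Type*} [Field F] [Fintype F]

local notation "SL₂" => Matrix.SpecialLinearGroup (Fin 2) F
local notation "M₂" => Matrix (Fin 2) (Fin 2) F
local notation "Cg" g:max => (Subgroup.centralizer ({g} : Set SL₂))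
local notation "Ng" g:max => (Subgroup.normalizer ((Subgroup.centralizer ({g} : Set SL₂)) : Set SL₂))

omit [Fintype F] in
lemma sl2_centralizer_comm {g : SL₂} (hg : ¬ IsScalar2 (g : M₂)) {a b : SL₂}
    (ha : a ∈ Subgroup.centralizer ({g} : Set SL₂)) (hb : b ∈ Subgroup.centralizer ({g} : Set SL₂)) :
    a * b = b * a := by
  obtain ⟨x, y, -, hab⟩ := exists_coeff_of_mem_centralizer hg ha
  apply Subtype.ext
  have hb' := congrArg (fun z : SL₂ => (z : M₂)) (Subgroup.mem_centralizer_singleton_iff.1 hb)
  simp only [coe_mul] at hb' ⊢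
  rw [hab]
  simp only [mul_add, add_mul, mul_smul_comm, smul_mul_assoc, mul_one, one_mul, hb']

omit [Fintype F] in
/-- An element inverting `g` inverts the whole centraliser of `g`. -/
lemma sl2_inverts_centralizer {g x c : SL₂} (hg : ¬ IsScalar2 (g : M₂))
    (hx : x * g * x⁻¹ = g⁻¹) (hc : c ∈ Subgroup.centralizer ({g} : Set SL₂)) :
    x * c * x⁻¹ = c⁻¹ := by
  obtain ⟨a, b, -, hab⟩ := exists_coeff_of_mem_centralizer hg hc
  have hinv : (x : M₂) * ((x⁻¹ : SL₂) : M₂) = 1 := by rw [← coe_mul, mul_inv_cancel, coe_one]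
  have hx' := congrArg (fun z : SL₂ => (z : M₂)) hx
  simp only [coe_mul] at hx'
  apply Subtype.ext
  rw [coe_mul, coe_mul, sl2_coe_inv c, hab]
  simp only [mul_add, add_mul, mul_smul_comm, smul_mul_assoc, mul_one, one_mul, hinv, hx',
    sl2_coe_inv g, Matrix.trace_add, Matrix.trace_smul, Matrix.trace_one, Fintype.card_fin,
    Nat.cast_ofNat, smul_eq_mul, smul_sub, smul_smul]
  module

lemma sl2_mem_normalizer_centralizer_iff {g x : SL₂} (ht : (g : M₂).trace ^ 2 ≠ 4) :
    x ∈ Ng g ↔ x * g * x⁻¹ = g ∨ x * g * x⁻¹ = g⁻¹ := by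
  have hg := not_isScalar2_of_trace ht
  rw [Subgroup.mem_normalizer_iff]
  constructor
  · intro h
    have h1 := (h g).1 (sl2_self_mem_centralizer g)
    exact Cfsg.Agent.H6.eq_or_eq_inv_of_tr_eq (g := g) (h := x * g * x⁻¹)
      (by rw [Cfsg.Agent.H6.tr, ← Matrix.trace_fin_two]; exact ht)
      (fun hs => hg hs) (Cfsg.Agent.H6.mem_cent.2
        (Subgroup.mem_centralizer_singleton_iff.1 h1).symm) (Cfsg.Agent.H6.tr_conj x g)
  · intro h c
    have hconj : x⁻¹ * g * x = g ∨ x⁻¹ * g * x = g⁻¹ := by
      rcases h with e | e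
      · left
        conv_lhs => rw [← e]
        simp [mul_assoc]
      · right
        have : g = x * g⁻¹ * x⁻¹ := by
          rw [← conj_inv, e, inv_inv]
        conv_lhs => rw [this]
        simp [mul_assoc]
    have main : ∀ y z : SL₂, (y * g * y⁻¹ = g ∨ y * g * y⁻¹ = g⁻¹) →
        z ∈ Subgroup.centralizer ({g} : Set SL₂) →
        y * z * y⁻¹ ∈ Subgroup.centralizer ({g} : Set SL₂) := by
      intro y z hy hz
      have hz' : Commute z g := Subgroup.mem_centralizer_singleton_iff.1 hz
      have := hz'.map (MulAut.conj y).toMonoidHom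
      simp only [MulEquiv.coe_toMonoidHom, MulAut.conj_apply] at this
      rw [Subgroup.mem_centralizer_singleton_iff]
      rcases hy with e | e <;> rw [e] at this
      · exact this
      · exact Commute.inv_right_iff.1 this
    refine ⟨main x c h, fun hc => ?_⟩
    have := main x⁻¹ (x * c * x⁻¹) (by rwa [inv_inv]) hc
    simpa [mul_assoc] using this

omit [Fintype F] in
lemma sl2_inv_ne_self {g : SL₂} (ht : (g : M₂).trace ^ 2 ≠ 4) : g⁻¹ ≠ g :=
  Cfsg.Agent.H6.inv_ne_self_of_ss (by rw [Cfsg.Agent.H6.tr, ← Matrix.trace_fin_two]; exact ht)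

/-- The structure of the normaliser of a maximal torus. -/
lemma sl2_torus_normalizer {g : SL₂} (ht : (g : M₂).trace ^ 2 ≠ 4) :
    Nat.card (Ng g) = 2 * Nat.card (Cg g) ∧
    (∀ x ∈ Ng g, x ∉ (Cg g) → ∀ c ∈ (Cg g), x * c * x⁻¹ = c⁻¹) ∧
    ((2 : F) ≠ 0 → ∀ x ∈ Ng g, x ∉ (Cg g) → x * x = -1) ∧
    ((2 : F) ≠ 0 → 2 * Nat.card (ConjClasses (Ng g)) = Nat.card (Cg g) + 6) := by
  classical
  have hg := not_isScalar2_of_trace ht
  have hle : (Cg g) ≤ Ng g := Subgroup.le_normalizer
  have hinv : ∀ x ∈ Ng g, x ∉ (Cg g) → ∀ c ∈ (Cg g), x * c * x⁻¹ = c⁻¹ := by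
    intro x hx hxC c hc
    rcases (sl2_mem_normalizer_centralizer_iff ht).1 hx with e | e
    · exact absurd (Subgroup.mem_centralizer_singleton_iff.2 (mul_inv_eq_iff_eq_mul.1 e)) hxC
    · exact sl2_inverts_centralizer hg e hc
  obtain ⟨w, hw⟩ := isConj_iff.1 (sl2_isConj_of_trace (h := g⁻¹) hg
    (not_isScalar2_of_trace (by
      rw [show ((g⁻¹ : SL₂) : M₂).trace = (g : M₂).trace from by
        rw [sl2_coe_inv, Matrix.trace_sub, Matrix.trace_smul, Matrix.trace_one, Fintype.card_fin,
          smul_eq_mul]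
        push_cast
        ring]
      exact ht))
    (by rw [sl2_coe_inv, Matrix.trace_sub, Matrix.trace_smul, Matrix.trace_one, Fintype.card_fin,
          smul_eq_mul]
        push_cast
        ring) (Or.inl ht))
  have hwN : w ∈ Ng g := (sl2_mem_normalizer_centralizer_iff ht).2 (Or.inr hw)
  have hwC : w ∉ (Cg g) := fun h => sl2_inv_ne_self ht (by
    rw [← hw]
    exact mul_inv_eq_iff_eq_mul.2 (Subgroup.mem_centralizer_singleton_iff.1 h))
  let C' : Subgroup (Ng g) := (Cg g).subgroupOf (Ng g)
  have hC' : Nat.card C' = Nat.card (Cg g) :=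
    Nat.card_congr (Subgroup.subgroupOfEquivOfLe hle).toEquiv
  have hidx : C'.index = 2 := by
    rw [Subgroup.index_eq_two_iff']
    refine ⟨⟨w, hwN⟩, fun b => ?_⟩
    by_cases hb : (b : SL₂) ∈ (Cg g)
    · refine Or.inr ⟨hb, fun h => hwC ?_⟩
      have h' : w * (b : SL₂) ∈ (Cg g) := h
      simpa using mul_mem h' (inv_mem hb)
    · refine Or.inl ⟨?_, hb⟩
      change w * (b : SL₂) ∈ (Cg g)
      have key : w * g * w⁻¹ = g⁻¹ := hw
      have kb : (b : SL₂) * g * (b : SL₂)⁻¹ = g⁻¹ :=
        hinv b b.2 hb g (sl2_self_mem_centralizer g)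
      rw [Subgroup.mem_centralizer_singleton_iff, ← mul_inv_eq_iff_eq_mul, _root_.mul_inv_rev]
      calc w * (b : SL₂) * g * ((b : SL₂)⁻¹ * w⁻¹)
          = w * ((b : SL₂) * g * (b : SL₂)⁻¹) * w⁻¹ := by simp [mul_assoc]
        _ = (w * g * w⁻¹)⁻¹ := by rw [kb]; simp [mul_assoc]
        _ = g := by rw [key, inv_inv]
  refine ⟨?_, hinv, ?_, ?_⟩
  · rw [← C'.card_mul_index, hidx, hC', mul_comm]
  · intro h2 x hx hxC
    have hxx : x * x ∈ (Cg g) := by
      have := Subgroup.mul_self_mem_of_index_two hidx (⟨x, hx⟩ : Ng g)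
      exact this
    have h1 := hinv x hx hxC _ hxx
    rw [← mul_assoc, mul_inv_cancel_right] at h1
    rcases sl2_eq_one_or_neg_one_of_sq h2 (mul_eq_one_iff_eq_inv.2 h1) with e | e
    · exfalso
      apply hxC
      rcases sl2_eq_one_or_neg_one_of_sq h2 e with rfl | rfl
      · exact Subgroup.one_mem _
      · exact Subgroup.mem_centralizer_singleton_iff.2 (by simp)
    · exact e
  · intro h2
    rw [← hC']
    have hneg : (-1 : SL₂) ∈ (Cg g) := Subgroup.mem_centralizer_singleton_iff.2 (by simp)
    refine card_conjClasses_of_inverting C'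
      (fun a ha b hb => Subtype.ext (sl2_centralizer_comm hg ha hb)) hidx
      (fun x hx c hc => Subtype.ext (hinv x x.2 hx c hc)) (z := ⟨-1, hle hneg⟩) ?_ hneg ?_ ?_
    · intro h
      exact sl2_neg_ne_self h2 1 (congrArg Subtype.val h)
    · exact Subtype.ext (by simp)
    · intro c _ hcc
      rcases sl2_eq_one_or_neg_one_of_sq h2 (congrArg Subtype.val hcc) with e | e
      · exact Or.inl (Subtype.ext e)
      · exact Or.inr (Subtype.ext e)

/-- A root of `X² - tX + 1` gives an eigenvector. -/
lemma rootCount_zero_iff_no_eigenvector (g : SL₂) :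
    rootCount (g : M₂).trace = 0 ↔
      ∀ (c : F) (v : Fin 2 → F), v ≠ 0 → (g : M₂).mulVec v ≠ c • v := by
  rw [rootCount_eq_zero_iff]
  have hdet : ∀ c : F, ((g : M₂) - c • (1 : M₂)).det = c ^ 2 - (g : M₂).trace * c + 1 := by
    intro c
    have hd := g.2
    rw [Matrix.det_fin_two] at hd
    simp [Matrix.det_fin_two, Matrix.trace_fin_two]
    linear_combination hd
  constructor
  · intro h c v hv he
    apply h c
    rw [← hdet, ← Matrix.exists_mulVec_eq_zero_iff]
    exact ⟨v, hv, by rw [Matrix.sub_mulVec, Matrix.smul_mulVec, Matrix.one_mulVec, he, sub_self]⟩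
  · intro h c hc
    obtain ⟨v, hv, he⟩ := Matrix.exists_mulVec_eq_zero_iff.2 ((hdet c).trans hc)
    rw [Matrix.sub_mulVec, Matrix.smul_mulVec, Matrix.one_mulVec, sub_eq_zero] at he
    exact h c v hv he

/-- An element without eigenvector is conjugate into any non-split torus (odd `q`). -/
lemma sl2_exists_conj_mem_elliptic (h2 : (2 : F) ≠ 0) {g h : SL₂}
    (hg : rootCount (g : M₂).trace = 0) (hh : rootCount (h : M₂).trace = 0) :
    ∃ x : SL₂, x * h * x⁻¹ ∈ (Cg g) := by
  classical
  set t := (g : M₂).trace with htdef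
  set s := (h : M₂).trace with hsdef
  have ht4 := sq_ne_four_of_rootCount_zero hg
  have hs4 := sq_ne_four_of_rootCount_zero hh
  have hns : ∀ u : F, rootCount u = 0 → ¬ IsSquare (u ^ 2 - 4) := by
    intro u hu ⟨r, hr⟩
    refine rootCount_eq_zero_iff.1 hu ((u + r) / 2) ?_
    field_simp
    linear_combination -hr
  have hchar : ringChar F ≠ 2 := fun hc => h2 (by
    have h := ringChar.Nat.cast_ringChar (R := F)
    rw [hc] at h
    exact_mod_cast h)
  have ht0 : t ^ 2 - 4 ≠ 0 := sub_ne_zero.2 ht4
  have hsq : IsSquare ((s ^ 2 - 4) * (t ^ 2 - 4)) := by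
    have h1 := quadraticChar_neg_one_iff_not_isSquare.2 (hns s hh)
    have h2' := quadraticChar_neg_one_iff_not_isSquare.2 (hns t hg)
    have h3 : quadraticChar F ((s ^ 2 - 4) * (t ^ 2 - 4)) = 1 := by
      rw [map_mul, h1, h2']
      norm_num
    exact (quadraticChar_one_iff_isSquare (mul_ne_zero (sub_ne_zero.2 hs4) ht0)).1 h3
  obtain ⟨r, hr⟩ := hsq
  set b := r / (t ^ 2 - 4) with hb
  have hbb : b ^ 2 * (t ^ 2 - 4) = s ^ 2 - 4 := by
    rw [hb]
    field_simp
    linear_combination -hr
  have hnorm : normForm t ((s - b * t) / 2, b) = 1 := by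
    simp only [normForm]
    field_simp
    linear_combination -hbb
  let c := centMap g ⟨((s - b * t) / 2, b), hnorm⟩
  have hct : ((c : SL₂) : M₂).trace = s := by
    simp only [c, centMap_coe, Matrix.trace_add, Matrix.trace_smul, Matrix.trace_one,
      Fintype.card_fin, smul_eq_mul, ← htdef]
    push_cast
    field_simp
    ring
  obtain ⟨x, hx⟩ := isConj_iff.1 (sl2_isConj_of_trace (not_isScalar2_of_trace hs4)
    (not_isScalar2_of_trace (g := (c : SL₂)) (by rw [hct]; exact hs4)) hct.symm (Or.inl hs4))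
  exact ⟨x, hx ▸ c.2⟩

end SL

end Cfsg.Agent.H69
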