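import Cfsg.Agent.S4591
import Cfsg.Agent.H45.Inflation
import Cfsg.Agent.H45.NormalSylow
import Cfsg.Agent.H43.CharTools
import Cfsg.Agent.H26.CharOrtho

/-!
# Characters of degree prime to `ℓ` of a group with a normal Sylow subgroup
-/

set_option autoImplicit false

namespace Cfsg.Agent.H69.McKay

open scoped commutatorElement

/-- The number of irreducible characters of degree prime to `ℓ`. -/
noncomputable def primeDegCount (ℓ : ℕ) (G : Type*) [Group G] : ℕ :=
  Nat.card {χ : Cfsg.IrrCharacter G // ¬ ℓ ∣ Cfsg.charDegree (χ : G → ℂ)}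

theorem primeDegCount_congr {G H : Type*} [Group G] [Group H] (ℓ : ℕ) (e : H ≃* G) :
    primeDegCount ℓ G = primeDegCount ℓ H := by
  refine Nat.card_congr ((H43.irrCongrEquiv e).subtypeEquiv fun χ => ?_)
  rw [show Cfsg.charDegree (H43.irrCongrEquiv e χ).1 = Cfsg.charDegree χ.1 from
    H43.charDegree_irrCongr e χ]

theorem primeDegCount_of_not_dvd_card {G : Type*} [Group G] [Fintype G] (ℓ : ℕ)
    (h : ¬ ℓ ∣ Nat.card G) : primeDegCount ℓ G = Nat.card (ConjClasses G) := by
  rw [← H26.card_irr_eq_card_conjClasses]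
  exact Nat.card_congr (Equiv.subtypeUnivEquiv fun χ hd => h (hd.trans (H43.irr_charDegree_dvd χ)))

/-- Irreducible characters with a normal subgroup in the kernel are inflated. -/
theorem exists_inflIrr_eq {G : Type*} [Group G] [Fintype G] (K : Subgroup G) [K.Normal]
    (χ : Cfsg.IrrCharacter G) (h : K ≤ H43.charKer χ) :
    ∃ φ : Cfsg.IrrCharacter (G ⧸ K),
      H45.inflIrr (QuotientGroup.mk' K) (QuotientGroup.mk'_surjective K) φ = χ := by
  obtain ⟨n, ρ, hρ, e⟩ := χ.2
  have hk : K ≤ MonoidHom.ker (ρ : G →* (Fin n → ℂ) →ₗ[ℂ] (Fin n → ℂ)) := by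
    intro a ha
    have h1 : χ.1 a = χ.1 1 := h ha
    rw [← e, ρ.char_one, H25.char_eq_degree_iff] at h1
    exact h1
  let σ : Representation ℂ (G ⧸ K) (Fin n → ℂ) := QuotientGroup.lift K ρ hk
  have hσ : σ.IsIrreducible := by
    have h1 := (H26.isIrreducible_iff_forall ρ).1 hρ
    exact (H26.isIrreducible_iff_forall σ).2
      ⟨h1.1, fun U hU => h1.2 U fun g v hv => hU (g : G ⧸ K) v hv⟩
  exact ⟨⟨_, n, σ, hσ, rfl⟩, Subtype.ext (funext fun g => by rw [← e]; rfl)⟩

variable {G : Type*} [Group G] [Fintype G] {ℓ : ℕ} [Fact ℓ.Prime]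

/-- With a normal Sylow subgroup `P`, the characters of degree prime to `ℓ` are those of `G/P'`. -/
theorem primeDegCount_normal_sylow (P : Sylow ℓ G) [hP : (P : Subgroup G).Normal] :
    primeDegCount ℓ G = Nat.card (Cfsg.IrrCharacter (G ⧸ ⁅(P : Subgroup G), (P : Subgroup G)⁆)) := by
  classical
  set K := ⁅(P : Subgroup G), (P : Subgroup G)⁆
  set π := QuotientGroup.mk' K with hπ
  set A := (P : Subgroup G).map π
  haveI : A.Normal := hP.map π (QuotientGroup.mk'_surjective K)
  have hA : IsPGroup ℓ A := P.isPGroup'.map π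
  have hidx : ¬ ℓ ∣ A.index := fun h => P.not_dvd_index
    (h.trans (Subgroup.index_map_dvd _ (QuotientGroup.mk'_surjective K)))
  have hab : ∀ a ∈ A, ∀ b ∈ A, a * b = b * a := by
    rintro _ ⟨x, hx, rfl⟩ _ ⟨y, hy, rfl⟩
    rw [← commutatorElement_eq_one_iff_mul_comm, ← map_commutatorElement]
    exact (QuotientGroup.eq_one_iff _).2 (Subgroup.commutator_mem_commutator hx hy)
  have hdeg : ∀ φ : Cfsg.IrrCharacter (G ⧸ K), ¬ ℓ ∣ Cfsg.charDegree φ.1 := by
    intro φ
    obtain ⟨n, ρ, hρ, e⟩ := φ.2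
    have h1 := H43.irr_charDegree_spec φ
    rw [← e, ρ.char_one] at h1
    rw [← e, ← Nat.cast_injective h1]
    exact H45.not_dvd_finrank_of_abelian_normal_sylow ρ ℓ A hA hidx hab
  refine (Nat.card_eq_of_bijective
    (fun φ => (⟨H45.inflIrr π (QuotientGroup.mk'_surjective K) φ, by
      have := hdeg φ
      simpa [Cfsg.charDegree, H45.inflIrr] using this⟩ :
        {χ : Cfsg.IrrCharacter G // ¬ ℓ ∣ Cfsg.charDegree (χ : G → ℂ)})) ⟨?_, ?_⟩).symm
  · intro a b h
    exact H45.inflIrr_injective π (QuotientGroup.mk'_surjective K) (congrArg Subtype.val h)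
  · rintro ⟨χ, hχ⟩
    have h0 : (⊥ : Subgroup G) ⊓ Subgroup.centralizer ((P : Subgroup G) : Set G) = ⊥ := bot_inf_eq _
    have h2 := S4591.le_charKer P ⊥ h0 χ hχ
    rw [bot_sup_eq, Subgroup.normalCore_eq_self] at h2
    obtain ⟨φ, hφ⟩ := exists_inflIrr_eq K χ h2
    exact ⟨φ, Subtype.ext hφ⟩

/-- The count for the normaliser of a Sylow subgroup. -/
theorem primeDegCount_normalizer (S : Sylow ℓ G) :
    ∃ P : Sylow ℓ (Subgroup.normalizer ((S : Subgroup G) : Set G)),
      (P : Subgroup (Subgroup.normalizer ((S : Subgroup G) : Set G))) =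
        (S : Subgroup G).subgroupOf (Subgroup.normalizer ((S : Subgroup G) : Set G)) ∧
      ∃ _ : (P : Subgroup (Subgroup.normalizer ((S : Subgroup G) : Set G))).Normal,
      primeDegCount ℓ (Subgroup.normalizer ((S : Subgroup G) : Set G)) =
        Nat.card (Cfsg.IrrCharacter (Subgroup.normalizer ((S : Subgroup G) : Set G) ⧸
          ⁅(P : Subgroup (Subgroup.normalizer ((S : Subgroup G) : Set G))),
            (P : Subgroup (Subgroup.normalizer ((S : Subgroup G) : Set G)))⁆)) := by
  haveI : Fintype (Subgroup.normalizer ((S : Subgroup G) : Set G)) := Fintype.ofFinite _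
  haveI hn : (S.subtype Subgroup.le_normalizer :
      Subgroup (Subgroup.normalizer ((S : Subgroup G) : Set G))).Normal := by
    rw [Sylow.coe_subtype]; exact Subgroup.normal_in_normalizer
  exact ⟨S.subtype Subgroup.le_normalizer, Sylow.coe_subtype .., hn, primeDegCount_normal_sylow _⟩

/-- For an abelian Sylow subgroup the count is the class number of the normaliser. -/
theorem primeDegCount_normalizer_of_comm (S : Sylow ℓ G)
    (hS : ∀ a ∈ (S : Subgroup G), ∀ b ∈ (S : Subgroup G), a * b = b * a) :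
    primeDegCount ℓ (Subgroup.normalizer ((S : Subgroup G) : Set G)) =
      Nat.card (ConjClasses (Subgroup.normalizer ((S : Subgroup G) : Set G))) := by
  haveI : Fintype (Subgroup.normalizer ((S : Subgroup G) : Set G)) := Fintype.ofFinite _
  obtain ⟨P, hP, hn, h⟩ := primeDegCount_normalizer S
  rw [h, ← H26.card_irr_eq_card_conjClasses]
  have hK : ⁅(P : Subgroup (Subgroup.normalizer ((S : Subgroup G) : Set G))),
      (P : Subgroup (Subgroup.normalizer ((S : Subgroup G) : Set G)))⁆ = ⊥ := by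
    rw [eq_bot_iff, Subgroup.commutator_le]
    intro a ha b hb
    rw [hP] at ha hb
    rw [Subgroup.mem_bot, commutatorElement_eq_one_iff_mul_comm]
    exact Subtype.ext (hS _ ha _ hb)
  exact Nat.card_congr (H43.irrCongrEquiv
    ((QuotientGroup.quotientMulEquivOfEq hK).trans QuotientGroup.quotientBot).symm)

/-- The count of the normaliser does not depend on the Sylow subgroup. -/
theorem primeDegCount_normalizer_eq (S T : Sylow ℓ G) :
    primeDegCount ℓ (Subgroup.normalizer ((S : Subgroup G) : Set G)) =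
      primeDegCount ℓ (Subgroup.normalizer ((T : Subgroup G) : Set G)) := by
  obtain ⟨g, rfl⟩ := MulAction.exists_smul_eq G S T
  refine primeDegCount_congr ℓ ((MulEquiv.subgroupCongr ?_).trans
    ((Subgroup.normalizer ((S : Subgroup G) : Set G)).equivMapOfInjective (MulAut.conj g).toMonoidHom
      (MulAut.conj g).injective).symm)
  rw [Subgroup.map_equiv_normalizer_eq]
  rfl

end Cfsg.Agent.H69.McKay
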